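import Cfsg.Agent.Lib.Helper28.TCCheck
import Cfsg.Agent.Lib.Helper56.HeD.Pres

set_option autoImplicit false
set_option linter.unusedVariables false

namespace Cfsg.Agent.Lib.Helper56.HeD

open Cfsg.Agent.Lib.Helper28.TC

noncomputable section

def hotA_c0 : ℕ := 0x0
def hotA : ℕ := hotA_c0
def coldA_c0 : ℕ := 0x0
def coldA : ℕ := coldA_c0
def treeT_c0 : ℕ := 0xa7187a6186a5385a4185a3383a2281a1181a037f9f27e9e17e9d37d9c27c9b37a9a17a993799827897177963769517594274932739237291371901718f3708e26f8d26e8c16e8b06d8a06c890698806887065860638505d8405c8325b8215b8105a803587f1587e0577d0567c3557b1557a054792527815277051760507504f7404e7334d7214d7104c7024a6f14a6e0496d2476c3466b3456a1456934468243672426614265341642406323f6233e6123d6013d5f33c5e13c5d23b5c33a5b0395a338591385803757336562355503454233531335203251331502304f22f4e32e4d02d4c22c4b12c4a02b4932a4812a47329461294502844226431264202541223401233f3223e1223d0213c0203b31f3a11f3931e3801e3721d3621c3511c3421b3301b3231a31219301192f3182e1182d2172c0172b3162a01629015282142711426013253122411223011220102130f2020f1f00e1e20d1d10d1c00c1b30b1a10b1900a1800917308162081520714007133061200611305102050f0050e2040d0040c3030b0030a30209202080020730106201051010430003200021000100000000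
def treeT : ℕ := treeT_c0
def rowT_c0 : ℕ := 0xa7a6a5a4a3a2a1a09f9e9d9c9b9a999897969594939291908f8e8d8c8b8a898887868584838281807f7e7d7c7b7a797877767574737271706f6e6d6c6b6a696867666564636261605f5e5d5c5b5a595857565554535251504f4e4d4c4b4a494847464544434241403f3e3d3c3b3a393837363534333231302f2e2d2c2b2a292827262524232221201f1e1d1c1b1a191817161514131211100f0e0d0c0b0a09080706050403020100
def rowT : ℕ := rowT_c0

end

end Cfsg.Agent.Lib.Helper56.HeD
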