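import Cfsg.Agent.Lib.Helper28.TCCheck
import Cfsg.Agent.Lib.Helper56.HeD.Pres

set_option autoImplicit false
set_option linter.unusedVariables false

namespace Cfsg.Agent.Lib.Helper56.HeD

open Cfsg.Agent.Lib.Helper28.TC

noncomputable section

def hotE0_c0 : ℕ := 0xa6e3e9393a368685a29f642779aa12968ca699e665f9b95e724f9495a7a5e9f9da8e66a08de4633928be362b8e93a7692a78ca5e36989f2929aa88aa562e96805b9fb6d7dda9f1697b599e96479579df5d77595d96b74d6dd16c72d69c5587055dbf636ed9db5556cda1af546ad49a75169541a14f67d819b70655359362669cd8b4a80231fa8b74205d8837da29f0896c9e9ba7c7b221dc847a21dbe7d649c5494c679d1414979219de854c4e9d28272a012938711fdc07e46cd5b47b6b9e513336a9e1a677691d9a0753e4b9947252184f12c629bd405f3a500e54437ca4dd423911cd52637114d1283a120cb2531488c1212fcc0bb364c170af1f4a164a7322e8ed1a56264711253298dc8f1e2f8f0891b3e1387d183c12c75171cc58de46341046b143510cca3f18c486111310f8c03d15c3cae39238c4510d260d0882f12c2c490a1f0b4742b1c8a83b081a89c330718890602309c18562007c14501d064104a1a120640f030e8543213098401e0e060300e09004040002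
def hotE0 : ℕ := hotE0_c0
def coldE0_c0 : ℕ := 0x8e800024a0000a0800028600008f80002665d0304d740c1b000098800026a00009b800024e560306d5c0c135a0305d5c0c17000090800024600008c8000236620305d8c0c13500306d440c13640306d940c134e0305d3c0c1300006d80001b200006980001a2000065800018e00005d800017200006480001aa00005a80001ae000059800015e000056800018a0000668000152000067800014e000051800014200004f800013a00005f80001be00004c80001862d0304c0001260000000000000370306ce40c130000000000000320305cd00c130000000e40c170000000d00c1b2b0305c00012e2d0306c00012200000000000000000398000000370304c0000de00000000000000000348000000320304c0000ca0000000000000000000000000000002d8000000210304c0000ae0000000800c1300003f800010e0000288000106150304c000096130305c00009e150306c000092000021800008200002f80000d6000000000007a00000000000c60e0304c00000000001b80000000c0305c0000760e0306c00006a000000000005e000000000005a0000158000000110304c00004e0000000400c130000118000042000000000000000000e80000000a0304c0000320000000240c1300000a80000260000000000000000000000001e000000000001a0000000000000000005800000000000480000000000038000000000000000000a0000000000000000000000000000000000000000000008000000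
def coldE0 : ℕ := coldE0_c0
def tfT0_c0 : ℕ := 0x8e92a0a18f99a4a5989a9b939d9ea29f90918c8d9ca69697a3a794956d6c696865635d5c646a5a6b595756626654675351504f4e5f6f4c6172498b8a80828988797b8783867c704b7348858439817f377e7d347a7832777675742d71602b6e5e3f43284146254427472421202f355b1e58313a551b52361d3b1a4d174a1615454013423e11103d3c0e38300c332e0a092c2a290726062322051f041c0319180214120f0d0b080001
def tfT0 : ℕ := tfT0_c0

end

end Cfsg.Agent.Lib.Helper56.HeD
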