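import Cfsg.Agent.Lib.Helper28.TCCheck
import Cfsg.Agent.Lib.Helper56.HeD.Pres

set_option autoImplicit false
set_option linter.unusedVariables false

namespace Cfsg.Agent.Lib.Helper56.HeD

open Cfsg.Agent.Lib.Helper28.TC

noncomputable section

def hotE1_c0 : ℕ := 0xa66229187a3e3283869fe8e7ea49c60a6d819a62a5d7f9665e519c94276457b906563b7a8d5e2589e8b5da409a8964a1f7489252177284e3a0d7184a42056fa3a99fd7d9a281f384a62a290a7a0a95e1757ca25d75c9c28a6ca1725665c9f70dddfc8b6e55a449b8ea65ad538d261c27e8b259e08587a4d994e85a460c8f63d2e048d61db18148619b979465d5a16f455d1a9674358d895d4255d81514058999473e559913f3d4ed6d353c75a0d3a5e4ace5c880495551f376e1f12458454d1ac7943d35093240d28fd30661cd0e523ccb58e7040940eb2b601b4e32a5e1ad6e693649d666757194cf245418cc923519853e5f4d174b9202d4a52a5a2ac7d1e5728c749f2645150951c421448d1a3f13c871920cb0f24c208b8ea493891cb43a1b454d844278d4651333904c83f17c605b172e0ecaa3814c38a236250cc4d0c230c4862f178885a21104506c281005864250c4202d070a424230d14878220f1306c170504c1028100c0482c1102408160b048280301020180203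
def hotE1 : ℕ := hotE1_c0
def coldE1_c0 : ℕ := 0x87800021a00008b80002160000a2a200c27000081800020200008980001fa000096800026e8a0308c0001ea00009480001e60000779d80c27000075a600c2700009180001ce920308c0001c600008d80001c28e0309c0001baa40309c0001f29e0308c00020e000000000000000000000001d2680204c00016e0000001600c2700005880000000000769b008130000558000000520308c00014a000000158081300000017008134d0309c0001360000001280c2300004a800000000006b800011e6c0308c0001160000678000112680309c00010a000061800010600005f80000fe640309c0000f6620308c0000f200005a80000ee0000001700c23000038800000000005480000da0000001580c27000033800000000004c80000c600004980000be0000001400c2700002c80000004e0308c0000aa290309c0000a60000000980c230000268000000230308c00008e220309c00008a00000000000001f0309c00007e000028800000000001e8700c2300001c8000096000000000006e190308c000066180309c00006200002b8000000210308c0000000000000dc0c270000148000000320308c00004a0000000000000000017800005a0000000340c2300000d80000000b0309c00002e0000000000000080309c200c230000138000000110308c000000000007800001a00000880000320000000280c2300000000000120000038140813010309c040c230000018000c27000308c0000020000000000000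
def coldE1 : ℕ := coldE1_c0
def tfT1_c0 : ℕ := 0x87868b85a2a38180897e969b9c7a9479779d7599917393718d708f6ea57c9f83a7a6a474885ba1a0589e768a559a9852977d9584924d908e4a8c6b476d456744694261415f3f653d633c5a3b825d387f54367b5733784c31492f72512c6f4f2a6c296a68266664236222605e5c1f28591e561c25531b50194e182b4b2d48463914433412403e17163a370d35320b302e2120132715240706080c1d0e1a04030f1110010a09000502
def tfT1 : ℕ := tfT1_c0

end

end Cfsg.Agent.Lib.Helper56.HeD
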