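import Cfsg.Agent.Lib.Helper28.TCCheck
import Cfsg.Agent.Lib.Helper56.HeD.Pres

set_option autoImplicit false
set_option linter.unusedVariables false

namespace Cfsg.Agent.Lib.Helper56.HeD

open Cfsg.Agent.Lib.Helper28.TC

noncomputable section

def hotE2_c0 : ℕ := 0xa766295a6a529e8796a068a7582a02926f97995fe628a96e064d7d92e2e477c90e163979a72a26ea1a1a96297588dd221928824e1973856360b70825be149080e1e4a9c98e7df5837bde2028c79dda429a76d71f4899d28e5a9e735fa64a0732024c9d91a6db7566c54e38997ba21a95979a1a289588a52189165d39914b82a3e088e61521836c609b57b475dd9d6d445ad0d766a595855b41555015360534f964665498d433f4e4f1375b76a11365d4b4eda87749d511d366d9ed193449961b07a445310731404c0ff4a659c8f72d4414990713f93ced2f611b97a6b384a8db275b1a56a6834c915a6555191425f53188c3234e1792c5a2dca0b1202a478a51d4715c9d1c46154972624469065140140ec4920460f64d1ec8877193811871152d8e8da45258cc671b34908c23d1e8b059102c0e4550e2a0e0a437270d46625240c8762b200b845090fc2070290e448350c0e0502b061608421051507c1d0b0d04c1c0d0440c44170f8580b020a844200f01404100a0281c0404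
def hotE2 : ℕ := hotE2_c0
def coldE2_c0 : ℕ := 0x978000296860208c0002560000a180002065b030cc00025a00007ea78144300008080001f200008a80001ee00008480001e2870208df40c33850208c0001d200007380002464d0310c0001ca00008c80001be00006e9280c33000086a680c4300009e800020a0000779b408170000759480c3300005b9a008170000001d80c4300007d8000000580208c0000007a0208c0001560000528000000650205c0001625d0205c0000000000001c4082300004d800012a000000000000000004780001ae290310c00011a000066800010e0000428980c33000060800010200003f800017e00003d88c0c33220310c0000fa00003b800016a00000007c0c4300003a940081700005380000d6540205c0000ce1c030cc00000000004b80000c200002f80001264c0205c0000b219030cc000000180310c0000ba0000001140823000029800009a000000000000000002380000000000000f00823000000000008a0000000e00823000027800007e00001d8000072000000000006e000000000009600001980000000000000a8082300001780000000000218000062280205c0000520d030cc0000000b0310c00006a0000000800817200310c00003e1e0205c00003600000000000000000000480823000000058081700000000000220000078000000000011800002e100310c0000160000000000012000000000002a060205c240c4300000280000000000000000006000000000000000000080000000000000000000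
def coldE2 : ℕ := coldE2_c0
def tfT2_c0 : ℕ := 0x97a5a695a181a3967e89807c8a7b8478a7a0a474739192728c6f6e8f869b9e82778b75995b88a29d7d9f7f9c9a5552988758859493904d4a8e8d476b6c466643426960403f5f3d65623e3b5a835c3a7653357a3357794b302f49712c51704e2e6d6a292668672364635e61225d59271f1d1c561b542519504f48174c211845143944321a413c2b0f380d37363424312a2d080728110b130520041e0a120c02161501100e00090603
def tfT2 : ℕ := tfT2_c0

end

end Cfsg.Agent.Lib.Helper56.HeD
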