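import Cfsg.Agent.Lib.Helper28.TCCheck
import Cfsg.Agent.Lib.Helper56.HeD.Pres

set_option autoImplicit false
set_option linter.unusedVariables false

namespace Cfsg.Agent.Lib.Helper56.HeD

open Cfsg.Agent.Lib.Helper28.TC

noncomputable section

def hotE3_c0 : ℕ := 0xa7e829796a2e1a898c9ee1279899ce0e6b80a7aa26198955fa539b925ee529d8fdea3d959827e3177a5a9e3c9989e461d7386dca2694845c60f8e83a3e0770a2295ff7c7e62278a37e229eb76a2a99e3799ea9272a275571cf599aa85c77895279bd567fa2e489c8fa69e285719fe30977aa1da3536753a1c9386a4a109081a358d4b625ad7f475f519886e5cd1571685c1a56944585095f625657d4f3f579954b41514f558644f569333b752092f394f179ce8148cdd21556f1f5205745cd9a275434c90b4d41524fb2f671d10a513d4c58c6f3bcad045039ca97e6d5f1b1726a5a19cd727581994a613348d4e6331c9144602f481325d2cc7d2e5b2b4a5225845950a12526c74931b43148f44c22c64fa4f214847f1a1e45cee4a39920ac381bc78d6431a44ca035318f8cc4017440842e2f0f0b23a1b8a09a3413c3092331f8b48a3011c24782c10c443d0e0dc1c68260bc18421617088250a0f0541b041387015030903c46180340836140b848070106834140b030200605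
def hotE3 : ℕ := hotE3_c0
def coldE3_c0 : ℕ := 0x9f8000256000085800022e000083800022200008280001fe870209c00025e00007d800026a00007a9f0083300007980002527e0209c0001da860209dd0104300009080001ca0000719cc083300007080002366e0410c0001be850210c0001ee000087a081043690206c0001d600000000001e2000000204082700005b800016200000000001de00000000001566c0206c000000000000170081b570206c000000630206c00014a00004d800000000000000000006e0209c00012a00006a800011a00004591c0833000044800019e420410c00010e000041800018600005e80000fa3d0410c00010200003c8fc083300005980000ea5a0206c0000e23b020cc00000000003680001520000000cc1043000035938081b000031800013200004880000ba0000000b01043000030924081b00002a8bc083300002980000000000000000000420209c00009a0000000f408270000228000000000023800000000001f800000000001e80000000000288000000330209c00009200001c800006a0000000b00827000018800000000002080000660000168000000000000050104300001d894081b00001286c0833210206c00000000000f85c08330000000000000140209c6c081b00000b8000000170206c00000000000880000000000108000036000006800000000000581c08330000000000026070206c00000e000000000000a04020cc0000000000018000000000000000000200000000000000000000000000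
def coldE3 : ℕ := coldE3_c0
def tfT3_c0 : ℕ := 0x9f95858b8388827fa7977d9a7a9c79949e76a69890727193708d8e6fa47b87a28975a578a3a15b58a0779d558a9b99847e9686524d92918f8c4a6a46456d4467684341615e3e64403c63593a81385d8036547c563574314c482e7350306e2a4f296c6b69662665602262235f1f5c1e5a285753241c1a514b184e2019164947371d4212343d3f0f2d3b3927330b322c2f082b100d06250515210914031b020e17011311000c0a0704
def tfT3 : ℕ := tfT3_c0

end

end Cfsg.Agent.Lib.Helper56.HeD
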